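import Groth.Agent.Lib.C1.RZ
import Groth.Agent.Lib.CycAff.Affine
import Groth.Agent.Lib.CycBasic.DimFun
import Groth.Agent.Lib.AffDom.PointDim
import Groth.Agent.Lib.CycP1.Graph
import Groth.Agent.S9684
import Groth.Agent.Lib.Excellent.Localization
import Groth.Agent.Lib.CatCM.Basic

/-!
Killed open subschemes, classes of points modulo rational equivalence.
-/

set_option autoImplicit false
universe u

open CategoryTheory AlgebraicGeometry TopologicalSpace

namespace GrothLib.ChowStrata17

open GrothLib GrothLib.AffDom GrothLib.CycAff GrothLib.C1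

theorem delta_eq_ptDim {K : Type u} [Field K] {X : Scheme.{u}} (f : X ⟶ Spec (CommRingCat.of K))
    [LocallyOfFiniteType f] {δ : X → ℤ} (hδ : Cyc.DeltaCompat f δ (fun _ => 0)) (x : X) :
    ∃ n : ℕ, δ x = n ∧ ptDim x = n := by
  obtain ⟨n, hn, hd⟩ := hδ x
  obtain ⟨m, hm, hm'⟩ := exists_dim_closure f x
  refine ⟨n, by simpa using hd, ?_⟩
  rw [ptDim, hm]
  obtain ⟨z, hz, hz'⟩ := exists_dim_closure (𝟙 (Spec (CommRingCat.of K))) (f x)
  have hz0 : z = 0 := by
    have h0 : topologicalKrullDim (closure {f x} : Set ↥(Spec (CommRingCat.of K))) ≤ 0 := by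
      haveI : Subsingleton ↥(Spec (CommRingCat.of K)) := inferInstanceAs (Subsingleton (PrimeSpectrum K))
      exact topologicalKrullDim_zero_of_discreteTopology _
    rw [hz] at h0
    have : z ≤ 0 := by exact_mod_cast h0
    omega
  subst hz0
  letI := (toRes (𝟙 (Spec (CommRingCat.of K))) (f x)).toAlgebra
  letI := (f.residueFieldMap x).hom.toAlgebra
  letI := (toRes f x).toAlgebra
  haveI : IsScalarTower K ((Spec (CommRingCat.of K)).residueField (f x)) (X.residueField x) :=
    IsScalarTower.of_algebraMap_eq' (by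
      show toRes f x = _
      conv_lhs => rw [← Category.comp_id f]
      rw [toRes_comp]
      rfl)
  have h := trdeg_add_eq K ((Spec (CommRingCat.of K)).residueField (f x)) (A := X.residueField x)
  have h1 : Algebra.trdeg K ((Spec (CommRingCat.of K)).residueField (f x)) = 0 := by
    have := hz'
    unfold ptTrdeg at this
    simpa using this
  have h2 : Algebra.trdeg K (X.residueField x) = m := hm'
  rw [h1, zero_add, h2, hn] at h
  exact_mod_cast h.symm

theorem isSetup_point (k : Type u) [Field k] : Cyc.IsSetup (Spec (CommRingCat.of k)) (fun _ => 0) := by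
  haveI : IsNoetherianRing (CommRingCat.of k : Type u) := inferInstanceAs (IsNoetherianRing k)
  refine ⟨inferInstance, fun x => ?_, fun a b _ hne => absurd ?_ hne⟩
  · let p : PrimeSpectrum k := x
    exact GrothLib.Excellent.isUniversallyCatenary_localization (A := k)
      (A' := (Spec.structureSheaf k).presheaf.stalk p) p.asIdeal.primeCompl
      (GrothLib.CatCM.isUniversallyCatenary_of_isRegularRing k)
  · exact Subsingleton.elim (α := PrimeSpectrum k) a b

theorem isDimFun_add_const {X : Scheme.{u}} {δ : X → ℤ} (hδ : Cyc.IsDimFun X δ) (c : ℤ) :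
    Cyc.IsDimFun X (fun x => δ x + c) := by
  intro x y h hne
  refine ⟨add_lt_add_of_lt_of_le (hδ x y h hne).1 le_rfl, fun hz => ?_⟩
  have := (hδ x y h hne).2 hz
  show δ x + c = δ y + c + 1
  omega

/-- Two dimension functions differ by a constant below a generic point. -/
theorem sub_eq_sub_of_specializes {X : Scheme.{u}} {δ δ' : X → ℤ} (hδ : Cyc.IsDimFun X δ) (hδ' : Cyc.IsDimFun X δ')
    {η v : X} (h : η ⤳ v) : δ η - δ v = δ' η - δ' v := by
  have e1 := CycBasic.ringKrullDim_locQuot hδ v η h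
  rw [CycBasic.ringKrullDim_locQuot hδ' v η h] at e1
  have e2 : (δ' η - δ' v).toNat = (δ η - δ v).toNat := by exact_mod_cast e1
  have := CycBasic.delta_le hδ h
  have := CycBasic.delta_le hδ' h
  omega

/-- Rationally trivial functions as a subgroup. -/
def rzSub {X : Scheme.{u}} [IsLocallyNoetherian X] {δ : X → ℤ} (hδ : Cyc.IsDimFun X δ) (m : ℤ) : AddSubgroup (X → ℤ) where
  carrier := {a | RZ δ m a}
  add_mem' := fun ha hb => RZ.add hδ ha hb
  zero_mem' := RZ.zero hδ m
  neg_mem' := fun ha => RZ.neg hδ ha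

theorem span_le_rzSub {X : Scheme.{u}} [IsLocallyNoetherian X] {δ : X → ℤ} (hδ : Cyc.IsDimFun X δ) (m : ℤ) :
    Span δ m ≤ rzSub hδ m := by
  refine (AddSubgroup.closure_le _).2 ?_
  rintro a ⟨ξ, g, hξ, hg, rfl⟩
  refine ⟨single g, single_ne_zero hg, fun x => ⟨⊤, trivial, (Set.finite_singleton ξ).subset fun z hz => ?_⟩,
    fun z hz => ?_, fun x => (finsum_single hδ g x).symm⟩
  · by_contra h
    exact hz.2 (single_of_ne g (fun e => h e.symm))
  · rcases eq_or_ne ξ z with rfl | h
    · exact hξ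
    · exact absurd (single_of_ne g h) hz

/-- On an open subscheme of affine space, non-generic points are finite sums of principal divisors. -/
theorem killed_opens (K : Type u) [Field K] (m : ℕ) (V : (Spec (CommRingCat.of (MvPolynomial (Fin m) K))).Opens) :
    Killed (V : Scheme.{u}) := by
  classical
  intro δ hδ v ⟨z, hzv, hne⟩
  let A := Spec (CommRingCat.of (MvPolynomial (Fin m) K))
  haveI : IsNoetherianRing (CommRingCat.of (MvPolynomial (Fin m) K) : Type u) :=
    inferInstanceAs (IsNoetherianRing (MvPolynomial (Fin m) K))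
  haveI : IsNoetherianRing (CommRingCat.of K : Type u) := inferInstanceAs (IsNoetherianRing K)
  let q : A ⟶ Spec (CommRingCat.of K) := Spec.map (CommRingCat.ofHom (algebraMap K (MvPolynomial (Fin m) K)))
  haveI : LocallyOfFiniteType q := by
    rw [HasRingHomProperty.Spec_iff (P := @LocallyOfFiniteType)]
    exact RingHom.finiteType_algebraMap.2 inferInstance
  obtain ⟨δ₀, h₀⟩ := CycP1.exists_deltaCompat q (fun _ => (0 : ℤ))
  have hA₀ : Cyc.IsDimFun A δ₀ := Groth.Agent.S9684.result q _ (isSetup_point K) δ₀ h₀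
  haveI : IrreducibleSpace A := inferInstanceAs (IrreducibleSpace (PrimeSpectrum (MvPolynomial (Fin m) K)))
  obtain ⟨w, hw⟩ : ∃ w : (V : Scheme.{u}), V.ι w = genericPoint A :=
    ⟨⟨genericPoint A, (genericPoint_specializes (V.ι v)).mem_open V.2 v.2⟩, rfl⟩
  obtain ⟨cst, hcst⟩ : ∃ c : ℤ, c = δ w - δ₀ (V.ι w) := ⟨_, rfl⟩
  let δA : A → ℤ := fun a => δ₀ a + cst
  have hA : Cyc.IsDimFun A δA := isDimFun_add_const hA₀ _
  have hbet : ∀ a b : (V : Scheme.{u}), ∀ c : A, V.ι a ⤳ c → c ⤳ V.ι b → c ∈ Set.range V.ι := fun a b c _ h2 =>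
    ⟨⟨c, h2.mem_open V.2 b.2⟩, rfl⟩
  have hV : Cyc.IsDimFun (V : Scheme.{u}) (δA ∘ V.ι) := CycPush.isDimFun_comp V.ι hA hbet
  have heq : δ = δA ∘ V.ι := funext fun a => by
    have hwa : w ⤳ a := V.ι.isEmbedding.isInducing.specializes_iff.1 (hw ▸ genericPoint_specializes (V.ι a))
    have := sub_eq_sub_of_specializes hδ hV hwa
    simp only [Function.comp_apply, δA] at this ⊢
    omega
  subst heq
  have hk : pt (V.ι v) ∈ Span δA (δA (V.ι v)) :=
    Killed.of_iso (Iso.refl A) (killed_mvPolynomial K m) δA hA (V.ι v)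
      ⟨V.ι z, hzv.map V.ι.continuous, fun e => hne (V.ι.isEmbedding.injective e)⟩
  obtain ⟨ι', _, ξ, g, h1, h2, h3⟩ := exists_list hA hk
  let s : Finset ι' := Finset.univ.filter fun i => ξ i ∈ V
  choose c hc using fun i : {i // i ∈ s} => (⟨⟨ξ i, (Finset.mem_filter.1 i.2).2⟩, rfl⟩ : ∃ c : (V : Scheme.{u}), V.ι c = ξ i)
  have hsum : pt v = ∑ i : {i // i ∈ s}, Cyc.divFun (δA ∘ V.ι) (c i)
      (V.ι.residueFieldMap (c i) ((A.residueFieldCongr (hc i)).inv (g i))) := by
    funext a
    rw [Finset.sum_apply]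
    have hp : pt v a = pt (V.ι v) (V.ι a) := by
      rcases eq_or_ne a v with rfl | h
      · rw [pt_self, pt_self]
      · rw [pt_ne h, pt_ne fun e => h (V.ι.isEmbedding.injective e)]
    rw [hp, h3]
    rw [← Finset.sum_filter_add_sum_filter_not Finset.univ (fun i => ξ i ∈ V)]
    rw [Finset.sum_eq_zero (s := Finset.univ.filter fun i => ¬ ξ i ∈ V) fun i hi => ?_, add_zero]
    · rw [← Finset.sum_coe_sort]
      refine Finset.sum_congr rfl fun i _ => ?_
      have key : ∀ {p p' : A} (e : p' = p) (f : A.residueField p), Cyc.divFun δA p f = Cyc.divFun δA p' ((A.residueFieldCongr e).inv f) := by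
        rintro p p' rfl f
        simp
      rw [key (hc i) (g i), ← CycPush.divFun_preimmersion V.ι hA hV (c i) a]
      exact fun e => h2 i ((map_eq_zero_iff _ (RingHom.injective _)).1 e)
    · by_contra h
      exact (Finset.mem_filter.1 hi).2 ((divFun_ne_zero h).1.mem_open V.2 a.2)
  rw [hsum]
  refine AddSubgroup.sum_mem _ fun i _ => AddSubgroup.subset_closure ⟨c i, _, ?_, ?_, rfl⟩
  · simp only [Function.comp_apply]
    rw [hc i]
    exact h1 i
  · exact (map_ne_zero _).2 fun e => h2 i ((map_eq_zero_iff _ (RingHom.injective _)).1 e)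

theorem eq_sum_pt {X : Scheme.{u}} (a : X → ℤ) (s : Finset X) (hs : ∀ x, a x ≠ 0 → x ∈ s) :
    a = ∑ x ∈ s, a x • pt x := by
  classical
  funext z
  rw [Finset.sum_apply]
  by_cases hz : z ∈ s
  · rw [Finset.sum_eq_single_of_mem z hz fun y _ hy => by simp [pt_ne (fun e => hy e.symm)]]
    simp [pt_self]
  · rw [Finset.sum_eq_zero fun y hy => by simp [pt_ne (fun e : z = y => hz (e ▸ hy))]]
    exact by_contra fun h => hz (hs z h)

theorem finite_support {X : Scheme.{u}} [CompactSpace X] (α : AlgebraicCycle X ℤ) : {x | α x ≠ 0}.Finite :=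
  (α.locallyFiniteSupport.finite_inter_support_of_isCompact isCompact_univ).subset fun _ hx => ⟨trivial, hx⟩

end GrothLib.ChowStrata17
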